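import Mathlib

/-! The normalisation argument. -/

set_option autoImplicit false
universe u

open MvPolynomial

namespace Groth.Agent.HorizElt

theorem isIntegrallyClosed_mvPolynomial {R : Type u} [CommRing R] [IsDomain R] [IsIntegrallyClosed R] :
    ∀ n : ℕ, IsIntegrallyClosed (MvPolynomial (Fin n) R)
  | 0 => IsIntegrallyClosed.of_equiv (MvPolynomial.isEmptyAlgEquiv R (Fin 0)).symm.toRingEquiv
  | n + 1 =>
    haveI := isIntegrallyClosed_mvPolynomial (R := R) n
    IsIntegrallyClosed.of_equiv (MvPolynomial.finSuccEquiv R n).symm.toRingEquiv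

/-- If `a s = X₀ c` with `s`, `c` integral over a normal polynomial ring and `a` a nonzero constant, then `s` lies in
every prime containing `X₀`. -/
theorem mem_of_integral {A' : Type u} [CommRing A'] [IsDomain A'] [IsIntegrallyClosed A'] {M : ℕ}
    {S : Type u} [CommRing S] [IsDomain S] [Algebra (MvPolynomial (Fin (M + 1)) A') S]
    [FaithfulSMul (MvPolynomial (Fin (M + 1)) A') S] (a : A') (ha : a ≠ 0) (s c : S)
    (hs : IsIntegral (MvPolynomial (Fin (M + 1)) A') s) (hc : IsIntegral (MvPolynomial (Fin (M + 1)) A') c)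
    (h : algebraMap _ S (C a : MvPolynomial (Fin (M + 1)) A') * s =
      algebraMap _ S (X 0 : MvPolynomial (Fin (M + 1)) A') * c)
    (P : Ideal S) [P.IsPrime] (hX : algebraMap _ S (X 0 : MvPolynomial (Fin (M + 1)) A') ∈ P) : s ∈ P := by
  haveI := isIntegrallyClosed_mvPolynomial (R := A') (M + 1)
  let R := MvPolynomial (Fin (M + 1)) A'
  have hg : (X 0 : R) ≠ 0 := X_ne_zero 0
  have hCa : (C a : R) ≠ 0 := fun h => ha (C_eq_zero.mp h)
  have e : (minpoly R s).scaleRoots (C a) = (minpoly R c).scaleRoots (X 0) := by
    rw [← IsIntegrallyClosed.minpoly_smul hCa hs, ← IsIntegrallyClosed.minpoly_smul hg hc, Algebra.smul_def, h,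
      Algebra.smul_def]
  set μ := minpoly R s with hμ
  have hdeg : μ.natDegree = (minpoly R c).natDegree := by
    simpa using congrArg Polynomial.natDegree e
  have hndvd : ¬ (X 0 : R) ∣ C a := by
    rintro ⟨q, hq⟩
    have := congrArg constantCoeff hq
    simp at this
    exact ha this
  have hdiv : ∀ i, i < μ.natDegree → (X 0 : R) ∣ μ.coeff i := fun i hi => by
    have h1 := congrArg (fun p => Polynomial.coeff p i) e
    simp only [Polynomial.coeff_scaleRoots] at h1
    have h2 : (X 0 : R) ∣ μ.coeff i * C a ^ (μ.natDegree - i) := by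
      rw [h1, ← hdeg]
      exact Dvd.dvd.mul_left (dvd_pow_self _ (by omega)) _
    exact ((MvPolynomial.X_prime (i := (0 : Fin (M + 1)))).dvd_or_dvd h2).resolve_right fun h3 =>
      hndvd ((MvPolynomial.X_prime (i := (0 : Fin (M + 1)))).dvd_of_dvd_pow h3)
  have h0 : Polynomial.aeval s μ = 0 := minpoly.aeval R s
  rw [Polynomial.aeval_eq_sum_range, Finset.sum_range_succ] at h0
  have h1 : s ^ μ.natDegree ∈ P := by
    have h2 : μ.coeff μ.natDegree = 1 := minpoly.monic hs
    rw [h2, one_smul] at h0
    rw [eq_neg_of_add_eq_zero_right h0]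
    refine neg_mem (sum_mem fun i hi => ?_)
    obtain ⟨q, hq⟩ := hdiv i (Finset.mem_range.mp hi)
    rw [Algebra.smul_def, hq, map_mul, mul_assoc]
    exact P.mul_mem_right _ hX
  exact Ideal.IsPrime.mem_of_pow_mem inferInstance _ h1

/-- Push elements integral over a polynomial subring to the integral closure over a bigger polynomial ring. -/
theorem ne_of_integral_aux {A A' B L : Type u} [CommRing A] [CommRing A'] [IsDomain A'] [IsIntegrallyClosed A']
    [CommRing B] [Field L] [Algebra A A'] [Algebra A B] [Algebra A' L] [Algebra B L] [Algebra A L] [IsScalarTower A A' L]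
    [IsScalarTower A B L] [Algebra.IsIntegral A A'] (hBL : Function.Injective (algebraMap B L))
    {M : ℕ} (z : Fin (M + 1) → B) (zL : Fin (M + 1) → L) (hzz : ∀ i, zL i = algebraMap B L (z i))
    (hz : AlgebraicIndependent A' zL)
    (s c : B) (a : A) (ha : algebraMap A A' a ≠ 0)
    (hs : (aeval z : MvPolynomial (Fin (M + 1)) A →ₐ[A] B).toRingHom.IsIntegralElem s)
    (hc : (aeval z : MvPolynomial (Fin (M + 1)) A →ₐ[A] B).toRingHom.IsIntegralElem c)
    (h : algebraMap A B a * s = z 0 * c) (P : Ideal B) [P.IsPrime] (hP : z 0 ∈ P) : s ∈ P := by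
  letI : Algebra (MvPolynomial (Fin (M + 1)) A) B := (aeval z).toRingHom.toAlgebra
  letI : Algebra (MvPolynomial (Fin (M + 1)) A') L := (aeval zL).toRingHom.toAlgebra
  haveI : FaithfulSMul (MvPolynomial (Fin (M + 1)) A') L := (faithfulSMul_iff_algebraMap_injective _ _).2 hz
  let ρ : B →+* L := algebraMap B L
  have hcomm : ((aeval zL : MvPolynomial (Fin (M + 1)) A' →ₐ[A'] L).toRingHom.comp (MvPolynomial.map (algebraMap A A'))) =
      ρ.comp (aeval z : MvPolynomial (Fin (M + 1)) A →ₐ[A] B).toRingHom :=
    MvPolynomial.ringHom_ext (fun r => by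
      simp [ρ, ← IsScalarTower.algebraMap_apply]) (fun i => by simp [ρ, hzz])
  have hint : ∀ x : integralClosure (MvPolynomial (Fin (M + 1)) A) B,
      ρ x ∈ integralClosure (MvPolynomial (Fin (M + 1)) A') L := by
    rintro ⟨x, f, hf, hfx⟩
    refine ⟨f.map (MvPolynomial.map (algebraMap A A')), hf.map _, ?_⟩
    rw [Polynomial.eval₂_map, show (algebraMap (MvPolynomial (Fin (M + 1)) A') L).comp
      (MvPolynomial.map (algebraMap A A')) = _ from hcomm, ← Polynomial.hom_eval₂]
    exact (congrArg ρ hfx).trans (map_zero ρ)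
  let θ : integralClosure (MvPolynomial (Fin (M + 1)) A) B →+* integralClosure (MvPolynomial (Fin (M + 1)) A') L :=
    RingHom.codRestrict (ρ.comp (integralClosure (MvPolynomial (Fin (M + 1)) A) B).val.toRingHom)
      (integralClosure (MvPolynomial (Fin (M + 1)) A') L) hint
  have hθinj : Function.Injective θ := fun x y hxy =>
    Subtype.ext (hBL (congrArg Subtype.val hxy))
  letI := θ.toAlgebra
  haveI : Algebra.IsIntegral (integralClosure (MvPolynomial (Fin (M + 1)) A) B)
      (integralClosure (MvPolynomial (Fin (M + 1)) A') L) := by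
    refine ⟨fun x => ?_⟩
    letI : Algebra (integralClosure (MvPolynomial (Fin (M + 1)) A) B) L :=
      (ρ.comp (integralClosure (MvPolynomial (Fin (M + 1)) A) B).val.toRingHom).toAlgebra
    have hA' : ∀ q : MvPolynomial (Fin (M + 1)) A', IsIntegral (integralClosure (MvPolynomial (Fin (M + 1)) A) B)
        (aeval zL q) := by
      intro q
      induction q using MvPolynomial.induction_on with
      | C r =>
        obtain ⟨f, hf, hfr⟩ := Algebra.IsIntegral.isIntegral (R := A) r
        refine ⟨f.map (algebraMap A (integralClosure (MvPolynomial (Fin (M + 1)) A) B)), hf.map _, ?_⟩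
        rw [Polynomial.eval₂_map]
        have e : (algebraMap (integralClosure (MvPolynomial (Fin (M + 1)) A) B) L).comp
            (algebraMap A (integralClosure (MvPolynomial (Fin (M + 1)) A) B)) = (algebraMap A' L).comp (algebraMap A A') :=
          RingHom.ext fun t => by
            show ρ (algebraMap A B t) = _
            simp [ρ, ← IsScalarTower.algebraMap_apply]
        rw [e, show aeval zL (C r) = algebraMap A' L r from aeval_C zL r, ← Polynomial.hom_eval₂, hfr, map_zero]
      | add p q hp hq => rw [map_add]; exact hp.add hq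
      | mul_X p i hp =>
        rw [map_mul]
        refine hp.mul ?_
        have e : aeval zL (X i : MvPolynomial (Fin (M + 1)) A') =
            algebraMap (integralClosure (MvPolynomial (Fin (M + 1)) A) B) L
              (algebraMap (MvPolynomial (Fin (M + 1)) A) _ (X i)) := by
          rw [aeval_X, hzz]
          exact (congrArg ρ (aeval_X z i)).symm
        rw [e]
        exact isIntegral_algebraMap
    obtain ⟨f, hf, hfx⟩ := x.2
    let χ' : MvPolynomial (Fin (M + 1)) A' →+* integralClosure (integralClosure (MvPolynomial (Fin (M + 1)) A) B) L :=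
      RingHom.codRestrict (aeval zL).toRingHom _ hA'
    have hx : IsIntegral (integralClosure (MvPolynomial (Fin (M + 1)) A) B) (x : L) :=
      isIntegral_trans (A := integralClosure (integralClosure (MvPolynomial (Fin (M + 1)) A) B) L) _
        ⟨f.map χ', hf.map _, by rw [Polynomial.eval₂_map]; exact hfx⟩
    obtain ⟨g, hg, hgx⟩ := hx
    refine ⟨g, hg, Subtype.val_injective ?_⟩
    exact (Polynomial.hom_eval₂ g θ (integralClosure (MvPolynomial (Fin (M + 1)) A') L).val.toRingHom x).trans hgx
  obtain ⟨Q, -, hQp, hQ⟩ := Ideal.exists_ideal_over_prime_of_isIntegral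
    (P.comap (integralClosure (MvPolynomial (Fin (M + 1)) A) B).val.toRingHom)
    (⊥ : Ideal (integralClosure (MvPolynomial (Fin (M + 1)) A') L)) (by
      show Ideal.comap θ ⊥ ≤ _
      rw [Ideal.comap_bot_of_injective _ hθinj]; exact bot_le)
  have key := mem_of_integral (M := M) (algebraMap A A' a) ha (θ ⟨s, hs⟩) (θ ⟨c, hc⟩)
    (Algebra.IsIntegral.isIntegral _) (Algebra.IsIntegral.isIntegral _) (Subtype.ext (by
      show aeval zL (C (algebraMap A A' a) : MvPolynomial (Fin (M + 1)) A') * ρ s =
        aeval zL (X 0 : MvPolynomial (Fin (M + 1)) A') * ρ c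
      have := congrArg ρ h
      simp only [map_mul] at this
      simpa [ρ, hzz, ← IsScalarTower.algebraMap_apply] using this)) Q (by
      have : algebraMap (MvPolynomial (Fin (M + 1)) A') (integralClosure (MvPolynomial (Fin (M + 1)) A') L) (X 0) =
          θ (algebraMap (MvPolynomial (Fin (M + 1)) A) _ (X 0)) :=
        Subtype.ext ((aeval_X zL 0).trans ((hzz 0).trans (congrArg ρ (aeval_X z 0)).symm))
      rw [this]
      show algebraMap (MvPolynomial (Fin (M + 1)) A) (integralClosure (MvPolynomial (Fin (M + 1)) A) B) (X 0) ∈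
        Q.comap θ
      rw [show Q.comap θ = _ from hQ]
      show (aeval z (X 0 : MvPolynomial (Fin (M + 1)) A)) ∈ P
      rw [aeval_X]
      exact hP)
  have : (⟨s, hs⟩ : integralClosure (MvPolynomial (Fin (M + 1)) A) B) ∈ Q.comap θ := key
  rw [show Q.comap θ = _ from hQ] at this
  exact this

/-- A horizontal element divides no nonzero element of the base, granted integrality over a polynomial ring. -/
theorem ne_of_integral {A B : Type u} [CommRing A] [IsDomain A] [CommRing B] [IsDomain B] [Algebra A B] {M : ℕ}
    (z : Fin (M + 1) → B) (hz : AlgebraicIndependent A z) (s c : B) (a : A) (ha : a ≠ 0)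
    (hs : (aeval z : MvPolynomial (Fin (M + 1)) A →ₐ[A] B).toRingHom.IsIntegralElem s)
    (hc : (aeval z : MvPolynomial (Fin (M + 1)) A →ₐ[A] B).toRingHom.IsIntegralElem c)
    (h : algebraMap A B a * s = z 0 * c) (P : Ideal B) [P.IsPrime] (hP : z 0 ∈ P) : s ∈ P := by
  let K := FractionRing A
  let L := FractionRing B
  haveI : FaithfulSMul A B := (faithfulSMul_iff_algebraMap_injective A B).2 hz.algebraMap_injective
  haveI : FaithfulSMul A L := FaithfulSMul.trans A B L
  letI : Algebra K L := FractionRing.liftAlgebra A L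
  haveI : Algebra.IsAlgebraic A K := IsLocalization.isAlgebraic K (nonZeroDivisors A)
  haveI : IsIntegrallyClosed (integralClosure A K) := integralClosure.isIntegrallyClosedOfFiniteExtension K
  have hzL : AlgebraicIndependent K (fun i => algebraMap B L (z i)) :=
    (hz.map' (f := IsScalarTower.toAlgHom A B L) (IsFractionRing.injective B L)).extendScalars K
  exact ne_of_integral_aux (A' := integralClosure A K) (L := L) (IsFractionRing.injective B L) z _ (fun _ => rfl)
    (hzL.restrictScalars Subtype.val_injective) s c a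
    ((map_ne_zero_iff _ (FaithfulSMul.algebraMap_injective A (integralClosure A K))).2 ha) hs hc h P hP

end Groth.Agent.HorizElt
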