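import Groth.Agent.HorizElt.Params
import Groth.Agent.HorizElt.Norm

/-! Horizontal elements. -/

set_option autoImplicit false
set_option maxHeartbeats 1000000
universe u

open MvPolynomial

namespace Groth.Agent.HorizElt

/-- Generators of the closed fibre data. -/
theorem exists_gens {A B : Type u} [CommRing A] [CommRing B] [IsLocalRing A] [IsLocalRing B]
    [Algebra A B] [IsLocalHom (algebraMap A B)] [Algebra.EssFiniteType A B]
    (g : B) (hg : g ∈ IsLocalRing.maximalIdeal B)
    (hmin : ∀ q ∈ (Ideal.map (algebraMap A B) (IsLocalRing.maximalIdeal A)).minimalPrimes, g ∉ q)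
    (d e : ℕ) (hd : ringKrullDim (B ⧸ Ideal.map (algebraMap A B) (IsLocalRing.maximalIdeal A)) = d)
    (he : Algebra.trdeg (IsLocalRing.ResidueField A) (IsLocalRing.ResidueField B) = e) :
    ∃ (M : ℕ) (z : Fin (M + 1) → B), M + 1 ≤ d + e ∧ z 0 = g ∧
      (∀ Q : Ideal B, Q.IsPrime → (∀ p : MvPolynomial (Fin (M + 1)) A,
        aeval z p ∈ IsLocalRing.maximalIdeal B → aeval z p ∈ Q) → Q = IsLocalRing.maximalIdeal B) ∧
      ∀ b : B, ∃ F : Polynomial (MvPolynomial (Fin (M + 1)) A),
        (∃ i, aeval z (F.coeff i) ∉ IsLocalRing.maximalIdeal B) ∧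
          F.eval₂ (aeval z : MvPolynomial (Fin (M + 1)) A →ₐ[A] B).toRingHom b ∈ IsLocalRing.maximalIdeal B := by
  classical
  obtain ⟨n, w, hn, hw, hQ⟩ := exists_params g hg hmin d hd
  let kA := IsLocalRing.ResidueField A
  let kB := IsLocalRing.ResidueField B
  obtain ⟨ι, t, ht⟩ := exists_isTranscendenceBasis' kA kB
  have hcard : Cardinal.mk ι = e := by rw [ht.cardinalMk_eq_trdeg, he]
  haveI : Finite ι := Cardinal.lt_aleph0_iff_finite.mp (hcard ▸ Cardinal.natCast_lt_aleph0)
  let eι : Fin e ≃ ι := ((Finite.equivFin ι).trans (finCongr (by rw [Nat.card, hcard]; simp))).symm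
  choose y hy using fun i => IsLocalRing.residue_surjective (R := B) (t (eι i))
  let z : Fin (n + e + 1) → B := Fin.cons g (Fin.append w y)
  refine ⟨n + e, z, by omega, Fin.cons_zero _ _, fun Q hQp hp => ?_, fun b => ?_⟩
  · refine hQ Q hQp (Ideal.map_le_iff_le_comap.mpr fun a ha => ?_) ?_ fun i => ?_
    · have := hp (C a) (by rw [aeval_C]; exact map_nonunit (algebraMap A B) a ha)
      rwa [aeval_C] at this
    · have := hp (X 0) (by rw [aeval_X]; simpa [z] using hg)
      rw [aeval_X] at this
      simpa [z] using this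
    · have hzi : z (Fin.castAdd e i).succ = w i := by simp [z]
      have := hp (X (Fin.castAdd e i).succ) (by rw [aeval_X, hzi]; exact hw i)
      rwa [aeval_X, hzi] at this
  · let π : MvPolynomial (Fin (n + e + 1)) A →+* kB :=
      (IsLocalRing.residue B).comp (aeval z : MvPolynomial (Fin (n + e + 1)) A →ₐ[A] B).toRingHom
    haveI := ht.isAlgebraic
    have hsub : ∀ x ∈ Algebra.adjoin kA (Set.range t), x ∈ π.range := by
      intro x hx
      induction hx using Algebra.adjoin_induction with
      | mem x hx =>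
        obtain ⟨i, rfl⟩ := hx
        refine ⟨X (Fin.natAdd n (eι.symm i)).succ, ?_⟩
        show IsLocalRing.residue B (aeval z (X _ : MvPolynomial (Fin (n + e + 1)) A)) = _
        rw [aeval_X, show z (Fin.natAdd n (eι.symm i)).succ = y (eι.symm i) by simp [z], hy,
          Equiv.apply_symm_apply]
      | algebraMap a =>
        obtain ⟨a, rfl⟩ := IsLocalRing.residue_surjective a
        refine ⟨C a, ?_⟩
        show IsLocalRing.residue B (aeval z (C a : MvPolynomial (Fin (n + e + 1)) A)) = _
        rw [aeval_C]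
        rfl
      | add x y _ _ hx hy => exact add_mem hx hy
      | mul x y _ _ hx hy => exact mul_mem hx hy
    obtain ⟨f, hf0, hfb⟩ := Algebra.IsAlgebraic.isAlgebraic (R := Algebra.adjoin kA (Set.range t))
      (IsLocalRing.residue B b)
    let f' : Polynomial kB := f.map (algebraMap _ kB)
    obtain ⟨F, hF⟩ : f' ∈ Polynomial.lifts π := by
      rw [Polynomial.lifts_iff_coeff_lifts]
      intro i
      rw [Polynomial.coeff_map]
      exact hsub _ (f.coeff i).2
    rw [Polynomial.coe_mapRingHom] at hF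
    have hf'0 : f' ≠ 0 := fun h => hf0 (Polynomial.map_injective _ Subtype.val_injective
      (h.trans (Polynomial.map_zero _).symm))
    obtain ⟨i, hi⟩ : ∃ i, f'.coeff i ≠ 0 := by
      by_contra hall
      push_neg at hall
      exact hf'0 (Polynomial.ext fun i => by simpa using hall i)
    refine ⟨F, ⟨i, fun hm => hi ?_⟩, ?_⟩
    · rw [← hF, Polynomial.coeff_map]
      exact (IsLocalRing.residue_eq_zero_iff _).mpr hm
    · rw [← IsLocalRing.residue_eq_zero_iff, Polynomial.hom_eval₂, ← hfb, Polynomial.aeval_def,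
        ← Polynomial.eval_map, ← Polynomial.eval_map]
      exact congrArg _ hF

/-- A horizontal element divides no nonzero element of the base. -/
theorem injective_quotient {A B : Type u} [CommRing A] [CommRing B] [IsDomain A] [IsDomain B] [IsLocalRing A]
    [IsLocalRing B] [Algebra A B] [IsLocalHom (algebraMap A B)] [FaithfulSMul A B] [Algebra.EssFiniteType A B]
    (g : B) (hg : g ∈ IsLocalRing.maximalIdeal B)
    (hmin : ∀ q ∈ (Ideal.map (algebraMap A B) (IsLocalRing.maximalIdeal A)).minimalPrimes, g ∉ q)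
    (d e : ℕ) (hd : ringKrullDim (B ⧸ Ideal.map (algebraMap A B) (IsLocalRing.maximalIdeal A)) = d)
    (he : Algebra.trdeg (IsLocalRing.ResidueField A) (IsLocalRing.ResidueField B) = e)
    (hsum : Algebra.trdeg A B = (d + e : ℕ)) :
    Function.Injective (algebraMap A (B ⧸ Ideal.span {g})) := by
  classical
  obtain ⟨M, z, hM, hz0, hQ, halg⟩ := exists_gens g hg hmin d e hd he
  let C₀ := Algebra.EssFiniteType.subalgebra A B
  let Cs := C₀ ⊔ Algebra.adjoin A (Set.range z)
  haveI : Algebra.FiniteType A Cs := (Subalgebra.fg_iff_finiteType _).mp (Subalgebra.FG.sup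
    ((Subalgebra.fg_iff_finiteType _).mpr inferInstance) (Subalgebra.fg_def.mpr ⟨Set.range z, Set.finite_range z, rfl⟩))
  let R := MvPolynomial (Fin (M + 1)) A
  let zC : Fin (M + 1) → Cs := fun i =>
    ⟨z i, (le_sup_right : Algebra.adjoin A (Set.range z) ≤ Cs) (Algebra.subset_adjoin ⟨i, rfl⟩)⟩
  letI : Algebra R Cs := (aeval zC : R →ₐ[A] Cs).toRingHom.toAlgebra
  haveI : IsScalarTower A R Cs := IsScalarTower.of_algebraMap_eq fun a => ((aeval zC : R →ₐ[A] Cs).commutes a).symm
  haveI : Algebra.FiniteType R Cs := Algebra.FiniteType.of_restrictScalars_finiteType A R Cs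
  have hval : ∀ p : R, ((algebraMap R Cs p : Cs) : B) = aeval z p := fun p =>
    (MvPolynomial.comp_aeval_apply (φ := Cs.val) zC p)
  let q : Ideal Cs := (IsLocalRing.maximalIdeal B).comap Cs.val.toRingHom
  haveI : q.IsPrime := Ideal.IsPrime.comap _
  have hqu : ∀ x : Cs, x ∉ q → IsUnit (x : B) := fun x hx => by
    by_contra h
    exact hx h
  have hsurj : ∀ b : B, ∃ c t : Cs, t ∉ q ∧ b * t = c := fun b => by
    obtain ⟨⟨c, t⟩, h⟩ := IsLocalization.surj (Algebra.EssFiniteType.submonoid A B) b
    exact ⟨⟨c, (le_sup_left : C₀ ≤ Cs) c.2⟩, ⟨t.1, (le_sup_left : C₀ ≤ Cs) t.1.2⟩, fun h => h t.2, h⟩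
  letI : Algebra Cs B := Cs.val.toRingHom.toAlgebra
  haveI : IsLocalization q.primeCompl B := by
    constructor
    constructor
    · intro t
      exact hqu t.1 t.2
    · intro b
      obtain ⟨c, t, ht, h⟩ := hsurj b
      exact ⟨⟨c, ⟨t, ht⟩⟩, h⟩
    · intro x y h
      exact ⟨1, by rw [Subtype.ext h]⟩
  haveI : Algebra.QuasiFiniteAt R q := by
    refine quasiFiniteAt_of_isolated q (fun q₂ hq₂ hc hle => le_antisymm ?_ hle) (fun q₁ hq₁ hc hle => ?_)
    · intro c hc2
      by_contra hcq
      obtain ⟨F, ⟨i, hi⟩, hF⟩ := halg (c : B)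
      obtain ⟨j, hj, hj'⟩ := Ideal.exists_coeff_mem_comap_sdiff_comap_of_root_mem_sdiff (f := algebraMap R Cs)
        hle ⟨hc2, hcq⟩ (p := F) (fun h0 => hi (by
          have h1 := congrArg (fun p => Polynomial.coeff p i) h0
          simp only [Polynomial.coeff_map, Polynomial.coeff_zero, Ideal.Quotient.eq_zero_iff_mem] at h1
          rw [← hval]
          exact h1)) (by
          show Cs.val.toRingHom (F.eval₂ (algebraMap R Cs) c) ∈ IsLocalRing.maximalIdeal B
          rw [Polynomial.hom_eval₂, show Cs.val.toRingHom.comp (algebraMap R Cs) = (aeval z).toRingHom from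
            RingHom.ext hval]
          exact hF)
      exact hj' (hc ▸ hj)
    · have hdis : Disjoint (q.primeCompl : Set Cs) (q₁ : Set Cs) :=
        Set.disjoint_left.mpr fun x hx hx1 => hx (hle hx1)
      have hQp : (q₁.map (algebraMap Cs B)).IsPrime := IsLocalization.isPrime_of_isPrime_disjoint q.primeCompl B q₁ hq₁ hdis
      have hQe : q₁.map (algebraMap Cs B) = IsLocalRing.maximalIdeal B := by
        refine hQ _ hQp fun p hp => ?_
        rw [← hval] at hp ⊢
        refine Ideal.mem_map_of_mem _ ?_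
        have : p ∈ q.comap (algebraMap R Cs) := hp
        rw [← hc] at this
        exact this
      have := IsLocalization.comap_map_of_isPrime_disjoint q.primeCompl B hq₁ hdis
      rw [hQe] at this
      exact this.symm
  obtain ⟨r, hrq, hrint, hr⟩ :=
    Algebra.zariskisMainProperty_iff.mp (Algebra.ZariskisMainProperty.of_finiteType (R := R) q)
  let φ : R →+* B := (aeval z : R →ₐ[A] B).toRingHom
  have hint : ∀ x : Cs, IsIntegral R x → φ.IsIntegralElem (x : B) := by
    rintro x ⟨f, hf, hfx⟩
    refine ⟨f, hf, ?_⟩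
    have := congrArg Cs.val.toRingHom hfx
    rw [Polynomial.hom_eval₂, show Cs.val.toRingHom.comp (algebraMap R Cs) = φ from RingHom.ext hval, map_zero] at this
    exact this
  -- `B` is algebraic over the polynomial subring
  have halgB : Algebra.IsAlgebraic (Algebra.adjoin A (Set.range z)) B := by
    have hI : ∀ x : Cs, IsIntegral R x → IsAlgebraic (Algebra.adjoin A (Set.range z)) (x : B) := by
      intro x hx
      obtain ⟨f, hf, hfx⟩ := hint x hx
      refine IsIntegral.isAlgebraic ⟨f.map (RingHom.codRestrict φ (Algebra.adjoin A (Set.range z)) fun p => ?_),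
        hf.map _, ?_⟩
      · rw [Algebra.adjoin_range_eq_range_aeval]; exact ⟨p, rfl⟩
      · rw [Polynomial.eval₂_map]; exact hfx
    have hC : ∀ x : Cs, IsAlgebraic (Algebra.adjoin A (Set.range z)) (x : B) := fun x => by
      obtain ⟨m, hm⟩ := hr x
      refine IsAlgebraic.of_mul (y := ((r ^ m : Cs) : B)) (mem_nonZeroDivisors_of_ne_zero ?_)
        (hI _ (hrint.pow m)) (by simpa using hI _ hm)
      exact (hqu (r ^ m) (fun h => hrq ((inferInstance : q.IsPrime).mem_of_pow_mem m h))).ne_zero
    refine ⟨fun b => ?_⟩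
    obtain ⟨c, t, ht, h⟩ := hsurj b
    exact IsAlgebraic.of_mul (mem_nonZeroDivisors_of_ne_zero (hqu t ht).ne_zero) (hC t)
      (by rw [mul_comm, h]; exact hC c)
  have hind : AlgebraicIndependent A z := by
    refine (Algebra.IsAlgebraic.isTranscendenceBasis_of_lift_le_trdeg A z ?_ ?_).1
    · rw [hsum]; exact Cardinal.natCast_lt_aleph0
    · rw [hsum, Cardinal.mk_fin, Cardinal.lift_natCast, Cardinal.lift_natCast]
      exact_mod_cast hM
  rw [injective_iff_map_eq_zero]
  intro a ha
  by_contra ha0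
  rw [IsScalarTower.algebraMap_apply A B (B ⧸ Ideal.span {g}), Ideal.Quotient.algebraMap_eq,
    Ideal.Quotient.eq_zero_iff_mem, Ideal.mem_span_singleton] at ha
  obtain ⟨b, hb⟩ := ha
  obtain ⟨c, t, ht, hbt⟩ := hsurj b
  obtain ⟨m₁, h₁⟩ := hr t
  obtain ⟨m₂, h₂⟩ := hr c
  have h₁' : IsIntegral R (r ^ (m₁ + m₂) * t) := by
    rw [pow_add, mul_comm (r ^ m₁), mul_assoc]; exact (hrint.pow _).mul h₁
  have h₂' : IsIntegral R (r ^ (m₁ + m₂) * c) := by
    rw [pow_add, mul_assoc]; exact (hrint.pow _).mul h₂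
  have key := ne_of_integral z hind _ _ a ha0 (hint _ h₁') (hint _ h₂') (by
    rw [hb, hz0]
    push_cast
    rw [← hbt]
    ring) (IsLocalRing.maximalIdeal B) (hz0 ▸ hg)
  exact (Ideal.IsPrime.mul_notMem inferInstance
    (fun h => hrq ((inferInstance : q.IsPrime).mem_of_pow_mem _ h)) ht : r ^ (m₁ + m₂) * t ∉ q) key

end Groth.Agent.HorizElt
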