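import Groth.Agent.HorizElt.QuasiFin

/-! Parameters of the closed fibre starting with a given element. -/

set_option autoImplicit false
universe u

namespace Groth.Agent.HorizElt

theorem exists_params_local {R : Type u} [CommRing R] [IsLocalRing R] [IsNoetherianRing R] (r : R)
    (hr : r ∈ IsLocalRing.maximalIdeal R) (hmin : ∀ p ∈ minimalPrimes R, r ∉ p) (d : ℕ) (hd : ringKrullDim R = d) :
    ∃ (n : ℕ) (w : Fin n → R), n + 1 ≤ d ∧ (∀ i, w i ∈ IsLocalRing.maximalIdeal R) ∧
      ∀ Q : Ideal R, Q.IsPrime → r ∈ Q → (∀ i, w i ∈ Q) → Q = IsLocalRing.maximalIdeal R := by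
  let S := R ⧸ Ideal.span {r}
  have hne : Ideal.span {r} ≠ ⊤ := fun h => (IsLocalRing.maximalIdeal.isMaximal R).ne_top
    (top_le_iff.mp (h ▸ (Ideal.span_singleton_le_iff_mem _).mpr hr))
  haveI := Ideal.Quotient.nontrivial_iff.mpr hne
  haveI : IsLocalRing S := IsLocalRing.of_surjective' _ Ideal.Quotient.mk_surjective
  have hdim : ringKrullDim S + 1 ≤ d := hd ▸ ringKrullDim_quotient_succ_le_of_minimalPrimes hmin
  obtain ⟨J, hJm, hJr, hJh⟩ := Ideal.exists_spanRank_eq_and_height_eq (IsLocalRing.maximalIdeal S)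
    (IsLocalRing.maximalIdeal.isMaximal S).ne_top
  have hfin : (IsLocalRing.maximalIdeal S).height ≠ ⊤ :=
    Ideal.height_ne_top (IsLocalRing.maximalIdeal.isMaximal S).ne_top
  obtain ⟨n, hn⟩ := ENat.ne_top_iff_exists.mp hfin
  rw [← IsLocalRing.maximalIdeal_height_eq_ringKrullDim, ← hn] at hdim
  obtain ⟨s, hsc, hss⟩ := Submodule.exists_span_set_card_eq_spanRank J
  rw [hJr, ← hn] at hsc
  have hsc' : Cardinal.mk s = n := by simpa using hsc
  haveI : Finite s := Cardinal.lt_aleph0_iff_finite.mp (hsc' ▸ Cardinal.natCast_lt_aleph0)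
  obtain ⟨e⟩ : Nonempty (Fin n ≃ s) := ⟨((Finite.equivFin s).trans (finCongr (by
    rw [Nat.card, hsc']; simp))).symm⟩
  choose w hw using fun i => Ideal.Quotient.mk_surjective ((e i : s) : S)
  refine ⟨n, w, by exact_mod_cast hdim, fun i => ?_, fun Q hQ hrQ hwQ => ?_⟩
  · have h1 : Ideal.Quotient.mk (Ideal.span {r}) (w i) ∈ IsLocalRing.maximalIdeal S := by
      rw [hw]
      exact hJm (hss ▸ Submodule.subset_span (e i).2)
    rw [IsLocalRing.mem_maximalIdeal, mem_nonunits_iff] at h1 ⊢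
    exact fun hu => h1 (hu.map _)
  · haveI := hQ
    have hle : Ideal.span {r} ≤ Q := (Ideal.span_singleton_le_iff_mem _).mpr hrQ
    let Q' : Ideal S := Q.map (Ideal.Quotient.mk _)
    haveI : Q'.IsPrime := Ideal.map_isPrime_of_surjective Ideal.Quotient.mk_surjective (by rwa [Ideal.mk_ker])
    have hJQ : J ≤ Q' := by
      rw [← hss, Submodule.span_le]
      intro x hx
      rw [SetLike.mem_coe, show x = ((e (e.symm ⟨x, hx⟩) : s) : S) by simp, ← hw]
      exact Ideal.mem_map_of_mem _ (hwQ _)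
    have hQm : Q' = IsLocalRing.maximalIdeal S := by
      refine (IsLocalRing.le_maximalIdeal (Ideal.IsPrime.ne_top inferInstance)).eq_or_lt.resolve_right fun hlt => ?_
      have := Ideal.height_strict_mono_of_isPrime hlt
      exact absurd (Ideal.height_mono hJQ) (not_le.mpr (hJh.symm ▸ this))
    refine (IsLocalRing.eq_maximalIdeal ?_)
    have hc := Ideal.comap_map_of_surjective _ (Ideal.Quotient.mk_surjective (I := Ideal.span {r})) Q
    rw [← RingHom.ker_eq_comap_bot, Ideal.mk_ker, sup_eq_left.mpr hle] at hc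
    rw [← hc, show Q.map (Ideal.Quotient.mk _) = IsLocalRing.maximalIdeal S from hQm]
    exact Ideal.comap_isMaximal_of_surjective _ Ideal.Quotient.mk_surjective

theorem exists_params {A B : Type u} [CommRing A] [CommRing B] [IsLocalRing A] [IsLocalRing B] [Algebra A B]
    [IsLocalHom (algebraMap A B)] [Algebra.EssFiniteType A B] (g : B) (hg : g ∈ IsLocalRing.maximalIdeal B)
    (hmin : ∀ q ∈ (Ideal.map (algebraMap A B) (IsLocalRing.maximalIdeal A)).minimalPrimes, g ∉ q)
    (d : ℕ) (hd : ringKrullDim (B ⧸ Ideal.map (algebraMap A B) (IsLocalRing.maximalIdeal A)) = d) :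
    ∃ (n : ℕ) (w : Fin n → B), n + 1 ≤ d ∧ (∀ i, w i ∈ IsLocalRing.maximalIdeal B) ∧
      ∀ Q : Ideal B, Q.IsPrime → Ideal.map (algebraMap A B) (IsLocalRing.maximalIdeal A) ≤ Q → g ∈ Q →
        (∀ i, w i ∈ Q) → Q = IsLocalRing.maximalIdeal B := by
  let I := Ideal.map (algebraMap A B) (IsLocalRing.maximalIdeal A)
  have hI : I ≤ IsLocalRing.maximalIdeal B :=
    Ideal.map_le_iff_le_comap.mpr fun r hr => Ideal.mem_comap.mpr (map_nonunit (algebraMap A B) r hr)
  haveI : Nontrivial (B ⧸ I) :=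
    Ideal.Quotient.nontrivial_iff.mpr fun h => (IsLocalRing.maximalIdeal.isMaximal B).ne_top (top_le_iff.mp (h ▸ hI))
  haveI : IsLocalRing (B ⧸ I) := IsLocalRing.of_surjective' _ Ideal.Quotient.mk_surjective
  letI : Field (A ⧸ IsLocalRing.maximalIdeal A) := Ideal.Quotient.field _
  haveI : Algebra.EssFiniteType A (B ⧸ I) := Algebra.EssFiniteType.comp A B (B ⧸ I)
  haveI : Algebra.EssFiniteType (A ⧸ IsLocalRing.maximalIdeal A) (B ⧸ I) :=
    Algebra.EssFiniteType.of_comp A (A ⧸ IsLocalRing.maximalIdeal A) (B ⧸ I)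
  haveI : IsNoetherianRing (B ⧸ I) := Algebra.EssFiniteType.isNoetherianRing (A ⧸ IsLocalRing.maximalIdeal A) _
  have hmax : (IsLocalRing.maximalIdeal (B ⧸ I)).comap (Ideal.Quotient.mk I) = IsLocalRing.maximalIdeal B :=
    haveI := Ideal.comap_isMaximal_of_surjective (Ideal.Quotient.mk I) Ideal.Quotient.mk_surjective
      (K := IsLocalRing.maximalIdeal (B ⧸ I))
    IsLocalRing.eq_maximalIdeal inferInstance
  have hmin' : ∀ p ∈ minimalPrimes (B ⧸ I), Ideal.Quotient.mk I g ∉ p := fun p hp => by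
    have h1 : p.comap (Ideal.Quotient.mk I) ∈ I.minimalPrimes := by
      rw [Ideal.minimalPrimes_eq_comap]
      exact ⟨p, hp, rfl⟩
    exact fun h => hmin _ h1 h
  obtain ⟨n, w, hn, hw, hQ⟩ := exists_params_local (Ideal.Quotient.mk I g)
    (by rw [← Ideal.mem_comap, hmax]; exact hg) hmin' d hd
  · choose w' hw' using fun i => Ideal.Quotient.mk_surjective (w i)
    refine ⟨n, w', hn, fun i => ?_, fun Q hQp hIQ hgQ hwQ => ?_⟩
    · rw [← hmax, Ideal.mem_comap, hw']; exact hw i
    · haveI := hQp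
      haveI : (Q.map (Ideal.Quotient.mk I)).IsPrime :=
        Ideal.map_isPrime_of_surjective Ideal.Quotient.mk_surjective (by rwa [Ideal.mk_ker])
      have h1 := hQ (Q.map (Ideal.Quotient.mk I)) inferInstance (Ideal.mem_map_of_mem _ hgQ)
        fun i => hw' i ▸ Ideal.mem_map_of_mem _ (hwQ i)
      have hc := Ideal.comap_map_of_surjective _ (Ideal.Quotient.mk_surjective (I := I)) Q
      rw [← RingHom.ker_eq_comap_bot, Ideal.mk_ker, sup_eq_left.mpr hIQ] at hc
      rw [← hc, h1, hmax]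

end Groth.Agent.HorizElt
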