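import Mathlib

/-! Quasi-finiteness at a prime isolated in its fibre, and a dimension step. -/

set_option autoImplicit false
set_option backward.isDefEq.respectTransparency false
universe u

namespace Groth.Agent.HorizElt

/-- A prime maximal and minimal in its fibre is a point of quasi-finiteness. -/
theorem quasiFiniteAt_of_isolated {A B : Type u} [CommRing A] [CommRing B] [Algebra A B]
    [Algebra.FiniteType A B] (n : Ideal B) [n.IsPrime]
    (hmax : ∀ q : Ideal B, q.IsPrime → q.comap (algebraMap A B) = n.comap (algebraMap A B) → n ≤ q → q = n)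
    (hmin : ∀ q : Ideal B, q.IsPrime → q.comap (algebraMap A B) = n.comap (algebraMap A B) → q ≤ n → q = n) :
    Algebra.QuasiFiniteAt A n := by
  refine Algebra.QuasiFiniteAt.of_isOpen_singleton_fiber ⟨n, inferInstance⟩ ?_
  let p := PrimeSpectrum.comap (algebraMap A B) ⟨n, inferInstance⟩
  let e := PrimeSpectrum.preimageHomeomorphFiber A B p
  haveI : IsJacobsonRing (p.asIdeal.Fiber B) :=
    isJacobsonRing_of_finiteType (A := p.asIdeal.ResidueField)
  haveI : IsNoetherianRing (p.asIdeal.Fiber B) :=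
    Algebra.FiniteType.isNoetherianRing p.asIdeal.ResidueField _
  rw [← e.isOpen_image, Set.image_singleton]
  set Q := e ⟨⟨n, inferInstance⟩, rfl⟩ with hQ
  let o := PrimeSpectrum.preimageOrderIsoFiber A B p
  have hsymm : o.symm Q = ⟨⟨n, inferInstance⟩, rfl⟩ := e.symm_apply_apply _
  have hmax' : ∀ x : PrimeSpectrum (p.asIdeal.Fiber B), Q ≤ x → x = Q := by
    intro x hx
    have hx' := o.symm.le_iff_le.mpr hx
    rw [hsymm] at hx'
    apply o.symm.injective
    rw [hsymm]
    exact Subtype.ext (PrimeSpectrum.ext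
      (hmax _ (o.symm x).1.isPrime (congrArg PrimeSpectrum.asIdeal (o.symm x).2) hx'))
  have hmin' : ∀ x : PrimeSpectrum (p.asIdeal.Fiber B), x ≤ Q → x = Q := by
    intro x hx
    have hx' := o.symm.le_iff_le.mpr hx
    rw [hsymm] at hx'
    apply o.symm.injective
    rw [hsymm]
    exact Subtype.ext (PrimeSpectrum.ext
      (hmin _ (o.symm x).1.isPrime (congrArg PrimeSpectrum.asIdeal (o.symm x).2) hx'))
  refine ((PrimeSpectrum.isOpen_singleton_tfae_of_isNoetherian_of_isJacobsonRing Q).out 0 2).mpr ?_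
  refine ⟨(PrimeSpectrum.isClosed_singleton_iff_isMaximal Q).mpr
    (PrimeSpectrum.isMax_iff.mp fun x hx => (hmax' x hx).le), fun x y hxy hx => ?_⟩
  obtain rfl := Set.mem_singleton_iff.mp hx
  exact hmin' y ((PrimeSpectrum.le_iff_specializes y Q).mpr hxy)

/-- Cutting by an element outside all minimal primes drops the dimension. -/
theorem ringKrullDim_quotient_succ_le_of_minimalPrimes {R : Type u} [CommRing R] {r : R}
    (hr : ∀ p ∈ minimalPrimes R, r ∉ p) : ringKrullDim (R ⧸ Ideal.span {r}) + 1 ≤ ringKrullDim R := by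
  by_cases hr' : Ideal.span {r} = ⊤
  · rw [hr', ringKrullDim_eq_bot_of_subsingleton]
    simp
  have : Nonempty (PrimeSpectrum.zeroLocus (R := R) (Ideal.span {r})) := by
    rwa [Set.nonempty_coe_sort, Set.nonempty_iff_ne_empty, ne_eq,
      PrimeSpectrum.zeroLocus_empty_iff_eq_top]
  have := Ideal.Quotient.nontrivial_iff.mpr hr'
  have := (Ideal.Quotient.mk (Ideal.span {r})).domain_nontrivial
  rw [ringKrullDim_quotient, Order.krullDim_eq_iSup_length, ringKrullDim,
    Order.krullDim_eq_iSup_length, ← WithBot.coe_one, ← WithBot.coe_add,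
    ENat.iSup_add, WithBot.coe_le_coe, iSup_le_iff]
  intro l
  obtain ⟨p, hp, hp'⟩ := Ideal.exists_minimalPrimes_le (J := l.head.1.asIdeal) bot_le
  let p' : PrimeSpectrum R := ⟨p, hp.1.1⟩
  have hp' : p' < l.head := lt_of_le_of_ne hp' fun h ↦ hr p hp
    (show r ∈ p by simpa [← h] using l.head.2)
  refine le_trans ?_ (le_iSup _ ((l.map Subtype.val (fun _ _ ↦ id)).cons p' hp'))
  simp

end Groth.Agent.HorizElt
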